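import Groth.Agent.H27LogTwist.Chain
import Mathlib

/-! # Poles can be removed in characteristic zero: algebraic core -/

set_option autoImplicit false
set_option backward.isDefEq.respectTransparency false
set_option backward.isDefEq.respectTransparency.types false

universe u

open exteriorPower TensorProduct

namespace Groth.Agent.H27LogComp

open Groth.Agent.H27LogTwist

variable {B L : Type u} [CommRing B] [AddCommGroup L] [Module B L]

theorem wedge_one_self (p : ℕ) (a : L) (x : ↥(⋀[B]^p L)) :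
    Conn.wedge (p + 1) (one a) (Conn.wedge p (one a) x) = 0 := by
  have hx : x ∈ Submodule.span B (Set.range (ιMulti B p (M := L))) := by rw [ιMulti_span]; trivial
  induction hx using Submodule.span_induction with
  | zero => simp
  | add x y _ _ hx hy => rw [map_add, map_add, hx, hy, add_zero]
  | smul c x _ hx => rw [map_smul, map_smul, hx, smul_zero]
  | mem y hy =>
    obtain ⟨ω, rfl⟩ := hy
    rw [wedge_one_ιMulti, wedge_one_ιMulti]
    exact (ιMulti B (p + 2)).map_eq_zero_of_eq _ (i := 0) (j := 1) (by simp [Fin.cons_one]) (by simp)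

variable (dB : B → L) (D : ∀ p : ℕ, ↥(⋀[B]^p L) →+ ↥(⋀[B]^(p + 1) L))

/-- `D` conjugated by a power of `G`, where `dB G = G • β` -/
noncomputable def DN (β : L) (N : ℕ) (p : ℕ) : ↥(⋀[B]^p L) →+ ↥(⋀[B]^(p + 1) L) :=
  D p - (N : B) • (Conn.wedge p (one β) : ↥(⋀[B]^p L) →ₗ[B] ↥(⋀[B]^(p + 1) L)).toAddMonoidHom

theorem DN_apply (β : L) (N : ℕ) (p : ℕ) (x : ↥(⋀[B]^p L)) :
    DN D β N p x = D p x - (N : B) • Conn.wedge p (one β) x := rfl

variable {dB D}

theorem DN_smul_pow {G : B} {β : L} (hG : dB G = G • β) (h1 : dB 1 = 0)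
    (hmul : ∀ a b, dB (a * b) = a • dB b + b • dB a)
    (hleib : ∀ p t x, D p (t • x) = t • D p x + Conn.wedge p (one (dB t)) x)
    (N p : ℕ) (e : ↥(⋀[B]^p L)) : DN D β N p (G ^ N • e) = G ^ N • D p e := by
  have hpow : ∀ n : ℕ, dB (G ^ n) = (n : B) • (G ^ n) • β := by
    intro n
    induction n with
    | zero => rw [pow_zero, h1, Nat.cast_zero, zero_smul]
    | succ n ih =>
      rw [pow_succ, hmul, ih, hG, smul_smul, smul_smul, smul_smul, smul_smul, ← add_smul]
      push_cast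
      ring_nf
  rw [DN_apply, hleib, hpow, map_smul, one_smul', one_smul', map_smul, map_smul, LinearMap.smul_apply,
    LinearMap.smul_apply, add_sub_cancel_right]

theorem DN_sq {G : B} {β : L} (hG : dB G = G • β)
    (hleib : ∀ p t x, D p (t • x) = t • D p x + Conn.wedge p (one (dB t)) x)
    (hsq : ∀ p x, D (p + 1) (D p x) = 0) (hinj : ∀ p (x : ↥(⋀[B]^p L)), G • x = 0 → x = 0)
    (N p : ℕ) (x : ↥(⋀[B]^p L)) : DN D β N (p + 1) (DN D β N p x) = 0 := by
  have hanti : ∀ (c : B), c = N → D (p + 1) (c • Conn.wedge p (one β) x) +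
      c • Conn.wedge (p + 1) (one β) (D p x) = c • (D (p + 1) (Conn.wedge p (one β) x) +
        Conn.wedge (p + 1) (one β) (D p x)) := by
    rintro c rfl
    rw [Nat.cast_smul_eq_nsmul, Nat.cast_smul_eq_nsmul, Nat.cast_smul_eq_nsmul, map_nsmul, smul_add]
  have hconj : ∀ q y, G • (D q y + Conn.wedge q (one β) y) = D q (G • y) := fun q y => by
    rw [hleib, hG, one_smul', map_smul, LinearMap.smul_apply, smul_add]
  have h0 : D (p + 1) (Conn.wedge p (one β) x) + Conn.wedge (p + 1) (one β) (D p x) = 0 := by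
    apply hinj
    apply hinj
    have h := congrArg (fun y => D (p + 1) (G • y)) (rfl : D p x + Conn.wedge p (one β) x = _)
    have h2 : G • (D (p + 1) (D p x + Conn.wedge p (one β) x) +
        Conn.wedge (p + 1) (one β) (D p x + Conn.wedge p (one β) x)) = 0 := by
      rw [hconj, hconj, hsq]
    rw [map_add, map_add, hsq, zero_add, wedge_one_self, add_zero] at h2
    rw [h2, smul_zero]
  rw [DN_apply, DN_apply, map_sub, hsq, zero_sub, map_sub, LinearMap.map_smul, wedge_one_self, smul_zero, sub_zero,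
    ← neg_add', neg_eq_zero, hanti _ rfl, h0, smul_zero]

/-- Removing poles of order `N` from cocycles. -/
theorem good_DN [Module.Finite B L] {r : ℕ} (S : Set L) (g : Fin r → B) (dl : Fin r → L)
    (v : Fin r → L →ₗ[B] B) (hspan : Submodule.span B S = ⊤)
    (h1 : dB 1 = 0) (hmul : ∀ a b, dB (a * b) = a • dB b + b • dB a)
    (hdl : ∀ i, dB (g i) = g i • dl i)
    (hex : ∀ i t, g i ∣ v i (dB t)) (hgen : ∀ i, ∀ s ∈ S, ∃ n : ℤ, g i ∣ v i s - n)
    (hvdl : ∀ i j, g i ∣ v i (dl j) - (if i = j then 1 else 0))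
    (hleib : ∀ p t x, D p (t • x) = t • D p x + Conn.wedge p (one (dB t)) x)
    (hclosed : ∀ p (s : Fin p → L), (∀ i, s i ∈ S) → D p (ιMulti B p s) = 0)
    (hsq : ∀ p x, D (p + 1) (D p x) = 0)
    (hinj : ∀ i p (x : ↥(⋀[B]^p L)), g i • x = 0 → x = 0)
    (hunit : ∀ n : ℕ, n ≠ 0 → IsUnit (n : B))
    (hG : dB (∏ i, g i) = (∏ i, g i) • (∑ i, dl i)) (N : ℕ) :
    (∀ z : ↥(⋀[B]^0 L), (∃ w, DN D (∑ i, dl i) N 0 z = (∏ i, g i) ^ N • w) → ∃ e, z = (∏ i, g i) ^ N • e) ∧
      ∀ (p : ℕ) (z : ↥(⋀[B]^(p + 1) L)), (∃ w, DN D (∑ i, dl i) N (p + 1) z = (∏ i, g i) ^ N • w) →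
        ∃ a e, z = DN D (∑ i, dl i) N p a + (∏ i, g i) ^ N • e := by
  classical
  set β := ∑ i, dl i with hβ
  let ℓ := fun p : ℕ => TensorProduct.lid B ↥(⋀[B]^p L)
  let D' : ∀ p : ℕ, B ⊗[B] ↥(⋀[B]^p L) →+ B ⊗[B] ↥(⋀[B]^(p + 1) L) := fun p =>
    (ℓ (p + 1)).symm.toLinearMap.toAddMonoidHom.comp ((DN D β N p).comp (ℓ p).toLinearMap.toAddMonoidHom)
  have hD' : ∀ p x, ℓ (p + 1) (D' p x) = DN D β N p (ℓ p x) := fun p x =>
    (ℓ (p + 1)).apply_symm_apply _
  let nab : B → B ⊗[B] ↥(⋀[B]^1 L) := fun m =>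
    (1 : B) ⊗ₜ one (dB m) + (-((N : B) * m)) ⊗ₜ one β
  have hwdg : ∀ p a (x : B ⊗[B] ↥(⋀[B]^p L)), ℓ (p + 1) (wdg B p a x) = Conn.wedge p (one a) (ℓ p x) := by
    intro p a x
    induction x using TensorProduct.induction_on with
    | zero => simp
    | add x y hx hy => rw [map_add, map_add, hx, hy, map_add, map_add]
    | tmul m w => rw [wdg_tmul, TensorProduct.lid_tmul, TensorProduct.lid_tmul, map_smul]
  have hinjG : ∀ p (x : ↥(⋀[B]^p L)), (∏ i, g i) • x = 0 → x = 0 :=
    Finset.prod_induction _ (fun c => ∀ p (x : ↥(⋀[B]^p L)), c • x = 0 → x = 0)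
      (fun a b ha hb p x hx => hb p x (ha p _ (by rwa [mul_smul] at hx)))
      (fun p x hx => by rwa [one_smul] at hx) fun i _ => hinj i
  have key := good_prod (M := B) (D := D') (nab := nab) (S := S) g dl v (fun _ => N) hspan h1 hmul hdl hex hgen hvdl
    (fun p t x => (ℓ (p + 1)).injective (by
      rw [map_add, LinearEquiv.map_smul, hD', hD', hwdg, LinearEquiv.map_smul, DN_apply, DN_apply, hleib, LinearMap.map_smul, smul_sub,
        smul_comm t (N : B)]
      abel))
    (fun p m s hs => (ℓ (p + 1)).injective (by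
      simp only [nab, map_add, LinearMap.add_apply, Conn.twedge_tmul, hD', ℓ, TensorProduct.lid_tmul]
      rw [DN_apply, hleib, hclosed p s hs, smul_zero, zero_add, one_smul, LinearMap.map_smul, neg_smul, mul_smul,
        sub_eq_add_neg]))
    (fun p x => (ℓ (p + 2)).injective (by
      rw [map_zero, hD', hD', DN_sq hG hleib hsq hinjG]))
    (fun i p x hx => (ℓ p).injective (by
      rw [map_zero]
      exact hinj i p _ (by rw [← LinearEquiv.map_smul, hx, map_zero])))
    (fun i μ hμ m => by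
      obtain ⟨q, hq⟩ : g i ∣ v i β - 1 := by
        have h : ∀ j, g i ∣ v i (dl j) - (if i = j then 1 else 0) := hvdl i
        rw [hβ, map_sum, show (1 : B) = ∑ j, (if i = j then (1 : B) else 0) by simp, ← Finset.sum_sub_distrib]
        exact Finset.dvd_sum fun j _ => h j
      obtain ⟨k, hk⟩ := hunit (N - μ) (by omega)
      let m' : B := -(↑k⁻¹ : B) * m
      obtain ⟨e₁, he₁⟩ := hex i m'
      refine ⟨m', e₁ - (N : B) * m' * q, ?_⟩
      have hth : th (v i) (nab m') = v i (dB m') - (N : B) * m' * v i β := by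
        simp only [nab]
        rw [th_add', th_tmul_one, th_tmul_one, smul_eq_mul, smul_eq_mul]
        ring
      rw [hth, he₁, sub_eq_iff_eq_add.1 hq, smul_eq_mul, smul_eq_mul]
      have hkm : ((N : B) - μ) * m' = -m := by
        rw [← Nat.cast_sub hμ.le, ← hk]
        simp [m']
      linear_combination -hkm)
  rw [Finset.prod_pow] at key
  refine ⟨fun z ⟨w, hw⟩ => ?_, fun p z ⟨w, hw⟩ => ?_⟩
  · obtain ⟨e, he⟩ := key.1 ((ℓ 0).symm z) ⟨(ℓ 1).symm w, (ℓ 1).injective (by
      rw [hD', LinearEquiv.apply_symm_apply, hw, LinearMap.lsmul_apply, LinearEquiv.map_smul, LinearEquiv.apply_symm_apply])⟩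
    rw [LinearMap.lsmul_apply] at he
    exact ⟨ℓ 0 e, by rw [← LinearEquiv.map_smul, he, LinearEquiv.apply_symm_apply]⟩
  · obtain ⟨y, e, he⟩ := key.2 p ((ℓ (p + 1)).symm z) ⟨(ℓ (p + 2)).symm w, (ℓ (p + 2)).injective (by
      rw [hD', LinearEquiv.apply_symm_apply, hw, LinearMap.lsmul_apply, LinearEquiv.map_smul, LinearEquiv.apply_symm_apply])⟩
    rw [LinearMap.lsmul_apply] at he
    refine ⟨ℓ p y, ℓ (p + 1) e, ?_⟩
    rw [← LinearEquiv.map_smul, he, map_sub, LinearEquiv.apply_symm_apply, hD', add_sub_cancel]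

end Groth.Agent.H27LogComp
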