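import Groth.Agent.H27LogTwist.Cx
import Groth.Prelude.Def_DeRham2
import Mathlib

/-! # The logarithmic de Rham complex on a chart -/

set_option autoImplicit false
set_option linter.style.haveILetI false
set_option backward.isDefEq.respectTransparency false
set_option backward.isDefEq.respectTransparency.types false

universe u

open CategoryTheory CategoryTheory.Limits AlgebraicGeometry TopologicalSpace Opposite
open scoped TensorProduct

namespace Groth.Agent.H27LogComp

open Groth.Agent.H27LogNCD Groth.Agent.H27LogTwist exteriorPower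

variable {X S : Scheme.{u}} {f : X ⟶ S} {Ω : X.Modules} {d : OmegaSh.Der f Ω} {r : ℕ}
  {D : Fin r → X.IdealSheafData} {Λ : LogNCD.LogMod d D} (K : DeRhamSh.Cx f Λ.L (LogNCD.der Λ))

/-- `⋀^p L(U)` -/
abbrev FF (Λ : LogNCD.LogMod d D) (U : X.Opens) (p : ℕ) : Type u := ↥(⋀[Γ(X, U)]^p Γ(Λ.L, U))

/-- restriction of forms -/
noncomputable def rf (p : ℕ) {U V : X.affineOpens} (h : V.1 ≤ U.1) : FF Λ U.1 p →+ FF Λ V.1 p where
  toFun z := K.loc p V (rm (K.term p) h ((K.loc p U).symm z))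
  map_zero' := by rw [map_zero, rm, map_zero, map_zero]
  map_add' a b := by rw [map_add, rm_add, map_add]

theorem rf_smul (p : ℕ) {U V : X.affineOpens} (h : V.1 ≤ U.1) (c : Γ(X, U.1)) (z : FF Λ U.1 p) :
    rf K p h (c • z) = rs h c • rf K p h z := by
  show K.loc p V (rm _ h ((K.loc p U).symm (c • z))) = _
  rw [LinearEquiv.map_smul, rm_smul, LinearEquiv.map_smul]
  rfl

theorem rf_ιMulti (p : ℕ) {U V : X.affineOpens} (h : V.1 ≤ U.1) (ω : Fin p → Γ(Λ.L, U.1)) :
    rf K p h (ιMulti _ p ω) = ιMulti _ p fun j => rm Λ.L h (ω j) := by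
  have h1 := congrArg (K.loc p V) (K.loc_res p U V h ω)
  rw [LinearEquiv.apply_symm_apply] at h1
  exact h1

theorem rf_injective (p : ℕ) {U V : X.affineOpens} (h : V.1 ≤ U.1)
    (hinj : Function.Injective (rs (X := X) h)) {n : ℕ} {b : Fin n → Γ(Λ.L, U.1)}
    (hb : OBas Λ.L U.1 b) : Function.Injective (rf K p h) := by
  classical
  let BU := (hb.basis (le_refl U.1)).exteriorPower p
  let BV := (hb.basis h).exteriorPower p
  have key : ∀ a, rf K p h (BU a) = BV a := fun s => by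
    simp only [BU, BV, exteriorPower.basis_apply, exteriorPower.ιMulti_family, rf_ιMulti, Function.comp_def,
      OBas.basis_apply]
    simp [rm]
  refine (injective_iff_map_eq_zero _).2 fun z hz => ?_
  rw [← BU.sum_repr z, map_sum] at hz
  simp only [rf_smul, key] at hz
  have h0 := Fintype.linearIndependent_iff.1 BV.linearIndependent _ hz
  rw [← BU.sum_repr z]
  refine Finset.sum_eq_zero fun a _ => ?_
  rw [hinj (a₁ := BU.repr z a) (a₂ := 0) (by rw [h0 a]; simp [rs]), zero_smul]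

/-- the differential of forms -/
noncomputable def df (U : X.affineOpens) (p : ℕ) : FF Λ U.1 p →+ FF Λ U.1 (p + 1) where
  toFun z := K.loc (p + 1) U ((K.iso (p + 1)).hom.hom.app (op U.1)
    ((K.K.d p (p + 1)).hom.app (op U.1) ((K.iso p).inv.hom.app (op U.1) ((K.loc p U).symm z))))
  map_zero' := by simp [map_zero]
  map_add' a b := by simp [map_add]

theorem iso_hom_inv (p : ℕ) (U : X.Opens) (z : Γ(K.term p, U)) :
    (K.iso p).hom.hom.app (op U) ((K.iso p).inv.hom.app (op U) z) = z :=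
  congr($((congrArg (fun φ : Coh.toAb (K.term p) ⟶ Coh.toAb (K.term p) => φ.hom.app (op U)) (K.iso p).inv_hom_id)) z)

theorem iso_inv_hom (p : ℕ) (U : X.Opens) (z : (K.K.X p).obj.obj (op U)) :
    (K.iso p).inv.hom.app (op U) ((K.iso p).hom.hom.app (op U) z) = z :=
  congr($((congrArg (fun φ : K.K.X p ⟶ K.K.X p => φ.hom.app (op U)) (K.iso p).hom_inv_id)) z)

theorem df_rf {U V : X.affineOpens} (h : V.1 ≤ U.1) (p : ℕ) (z : FF Λ U.1 p) :
    rf K (p + 1) h (df K U p z) = df K V p (rf K p h z) := by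
  show K.loc (p + 1) V (rm _ h ((K.loc (p + 1) U).symm (K.loc (p + 1) U _))) =
    K.loc (p + 1) V ((K.iso (p + 1)).hom.hom.app (op V.1) ((K.K.d p (p + 1)).hom.app (op V.1)
      ((K.iso p).inv.hom.app (op V.1) ((K.loc p V).symm (K.loc p V (rm _ h ((K.loc p U).symm z)))))))
  rw [LinearEquiv.symm_apply_apply, LinearEquiv.symm_apply_apply]
  refine congrArg (K.loc (p + 1) V) ?_
  have e1 := natural (K.iso p).inv h ((K.loc p U).symm z)
  have e2 := natural (K.K.d p (p + 1)) h ((K.iso p).inv.hom.app (op U.1) ((K.loc p U).symm z))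
  have e3 := natural (K.iso (p + 1)).hom h
    ((K.K.d p (p + 1)).hom.app (op U.1) ((K.iso p).inv.hom.app (op U.1) ((K.loc p U).symm z)))
  exact (e3.symm.trans (congrArg _ (e2.symm.trans (congrArg _ e1.symm))))

theorem df_sq (U : X.affineOpens) (p : ℕ) (z : FF Λ U.1 p) : df K U (p + 1) (df K U p z) = 0 := by
  show K.loc (p + 2) U _ = 0
  simp only [df, AddMonoidHom.coe_mk, ZeroHom.coe_mk, LinearEquiv.symm_apply_apply, iso_inv_hom]
  rw [← ConcreteCategory.comp_apply ((K.K.d p (p + 1)).hom.app (op U.1))]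
  have : (K.K.d p (p + 1)).hom.app (op U.1) ≫ (K.K.d (p + 1) (p + 1 + 1)).hom.app (op U.1) = 0 := by
    rw [← NatTrans.comp_app]
    exact congrArg (fun φ : K.K.X p ⟶ K.K.X (p + 1 + 1) => φ.hom.app (op U.1)) (K.K.d_comp_d p (p + 1) (p + 1 + 1))
  rw [this]
  simp

theorem df_rule (U : X.affineOpens) (p : ℕ) (b₀ : Γ(X, U.1)) (b : Fin p → Γ(X, U.1)) :
    df K U p (b₀ • ιMulti _ p fun i => dlog Λ U.1 (b i)) =
      ιMulti _ (p + 1) (Fin.cons (dlog Λ U.1 b₀) fun i => dlog Λ U.1 (b i)) := by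
  simp only [df, AddMonoidHom.coe_mk, ZeroHom.coe_mk]
  rw [K.rule p U b₀ b, iso_hom_inv, LinearEquiv.apply_symm_apply]

/-- `a ∧ z` -/
noncomputable abbrev wf {U : X.Opens} (p : ℕ) (a : Γ(Λ.L, U)) : FF Λ U p →ₗ[Γ(X, U)] FF Λ U (p + 1) :=
  Conn.wedge p (one a)

theorem wf_smul {U : X.Opens} (p : ℕ) (c : Γ(X, U)) (a : Γ(Λ.L, U)) (z : FF Λ U p) :
    wf p (c • a) z = c • wf p a z := by
  rw [wf, one_smul', map_smul, LinearMap.smul_apply]

theorem wf_add {U : X.Opens} (p : ℕ) (a a' : Γ(Λ.L, U)) (z : FF Λ U p) :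
    wf p (a + a') z = wf p a z + wf p a' z := by
  rw [wf, one_add, map_add, LinearMap.add_apply]

theorem rf_wf {U V : X.affineOpens} (h : V.1 ≤ U.1) (p : ℕ) (a : Γ(Λ.L, U.1)) (z : FF Λ U.1 p) :
    rf K (p + 1) h (wf p a z) = wf p (rm Λ.L h a) (rf K p h z) := by
  have hz : z ∈ Submodule.span Γ(X, U.1) (Set.range (ιMulti Γ(X, U.1) p (M := Γ(Λ.L, U.1)))) := by
    rw [ιMulti_span]; trivial
  induction hz using Submodule.span_induction with
  | zero => simp
  | add a b _ _ ha hb => rw [map_add, map_add, ha, hb, map_add, map_add]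
  | smul c a _ ha => rw [map_smul, rf_smul, ha, rf_smul, map_smul]
  | mem y hy =>
    obtain ⟨ω, rfl⟩ := hy
    rw [wf, wf, wedge_one_ιMulti, rf_ιMulti, rf_ιMulti, wedge_one_ιMulti]
    congr 1
    exact funext (Fin.cases rfl fun _ => rfl)

theorem df_leib_open (U : X.affineOpens) (hspan : Submodule.span Γ(X, U.1) (Set.range (dlog Λ U.1)) = ⊤) (p : ℕ)
    (t : Γ(X, U.1)) (z : FF Λ U.1 p) :
    df K U p (t • z) = t • df K U p z + wf p (dlog Λ U.1 t) z := by
  let T : Submodule Γ(X, U.1) (FF Λ U.1 p) :=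
    { carrier := {z | ∀ t, df K U p (t • z) = t • df K U p z + wf p (dlog Λ U.1 t) z}
      zero_mem' := fun t => by simp
      add_mem' := fun {a b} ha hb t => by rw [smul_add, map_add, ha t, hb t, map_add, map_add, smul_add]; abel
      smul_mem' := fun s a ha t => by
        rw [smul_smul, ha (t * s), ha s, smul_add, smul_smul, map_smul, dlog_mul, wf_add, wf_smul, wf_smul]
        abel }
  suffices ⊤ ≤ T from this Submodule.mem_top t
  rw [← ιMulti_span_of_span Γ(X, U.1) p Γ(Λ.L, U.1) hspan, Submodule.span_le]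
  rintro _ ⟨s, hs, rfl⟩
  choose b hb using fun i => hs ⟨i, rfl⟩
  obtain rfl : (fun i => dlog Λ U.1 (b i)) = s := funext hb
  intro t
  have h1 := df_rule K U p 1 b
  rw [one_smul, dlog_one, cons_eq_zero _ _ (Submodule.zero_mem _)] at h1
  rw [df_rule, h1, smul_zero, zero_add, wf, wedge_one_ιMulti]

theorem df_closed_open (U : X.affineOpens) (p : ℕ) (c : Fin p → Γ(X, U.1)) (b : Fin p → Γ(X, U.1))
    (hcb : ∀ i, dlog Λ U.1 (c i) ∈ Submodule.span Γ(X, U.1) {dlog Λ U.1 (b i)}) :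
    df K U p (ιMulti _ p fun i => c i • dlog Λ U.1 (b i)) = 0 := by
  rw [AlternatingMap.map_smul_univ, df_rule]
  refine cons_eq_zero _ _ ?_
  refine Finset.prod_induction c
    (fun a => dlog Λ U.1 a ∈ Submodule.span Γ(X, U.1) (Set.range fun i => dlog Λ U.1 (b i)))
    (fun a a' ha ha' => ?_) ?_ fun i _ => ?_
  · rw [dlog_mul]; exact Submodule.add_mem _ (Submodule.smul_mem _ _ ha') (Submodule.smul_mem _ _ ha)
  · rw [dlog_one]; exact Submodule.zero_mem _
  · exact Submodule.span_mono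
      (Set.singleton_subset_iff.2 (Set.mem_range_self (f := fun i => dlog Λ U.1 (b i)) i)) (hcb i)

variable {U : X.Opens} {g : Fin r → Γ(X, U)} {dl : Fin r → Γ(Λ.L, U)} (hc : Chart Λ Λ.L U g dl)

include hc

theorem rf_V_injective (p : ℕ) :
    Function.Injective (rf K p (U := ⟨U, hc.frame.affine⟩) (V := Chart.V hc.frame.affine g)
      (Chart.V_le hc.frame.affine g)) := by
  obtain ⟨n, b, hb⟩ := hc.basL
  exact rf_injective K p (U := ⟨U, hc.frame.affine⟩) _
    (isRegular_app_injective hc.frame.affine hc.frame.ideal hc.regular_prod).2 hb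

theorem df_leib (hd : OmegaSh.IsUniversal d) (p : ℕ) (t : Γ(X, U)) (z : FF Λ U p) :
    df K ⟨U, hc.frame.affine⟩ p (t • z) = t • df K ⟨U, hc.frame.affine⟩ p z + wf p (dlog Λ U t) z := by
  refine rf_V_injective K hc (p + 1) ?_
  rw [map_add, df_rf, rf_smul, rf_smul, df_leib_open K _ (hc.span_V hd), rf_wf, df_rf, dlog_res]

theorem df_closed (p : ℕ) (s : Fin p → Γ(Λ.L, U)) (hs : ∀ j, s j ∈ Set.range dl ∪ Set.range (dlog Λ U)) :
    df K ⟨U, hc.frame.affine⟩ p (ιMulti _ p s) = 0 := by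
  refine rf_V_injective K hc (p + 1) ?_
  rw [df_rf, rf_ιMulti, map_zero]
  have hj : ∀ j, ∃ c b : Γ(X, (Chart.V hc.frame.affine g).1),
      rm Λ.L (Chart.V_le hc.frame.affine g) (s j) = c • dlog Λ _ b ∧
      dlog Λ _ c ∈ Submodule.span Γ(X, (Chart.V hc.frame.affine g).1) {dlog Λ _ b} := by
    intro j
    rcases hs j with ⟨i, hi⟩ | ⟨t, ht⟩
    · obtain ⟨u, hu, he⟩ := hc.rm_dl_V i
      refine ⟨u, rs (Chart.V_le hc.frame.affine g) (g i), hi ▸ he, Submodule.mem_span_singleton.2 ⟨-(u * u), ?_⟩⟩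
      have h0 := dlog_mul (Λ := Λ) _ u (rs (Chart.V_le hc.frame.affine g) (g i))
      rw [hu, dlog_one] at h0
      have h1 := congrArg (u • ·) h0
      rw [smul_zero, smul_add, smul_smul, smul_smul, hu, one_smul] at h1
      rw [neg_smul]
      exact neg_eq_of_add_eq_zero_right h1.symm
    · exact ⟨1, rs (Chart.V_le hc.frame.affine g) t, by rw [← ht, dlog_res, one_smul],
        by rw [dlog_one]; exact Submodule.zero_mem _⟩
  choose c b hcb hspan using hj
  simp only [hcb]
  exact df_closed_open K _ p c b hspan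

end Groth.Agent.H27LogComp
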