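import Groth.Agent.H26Hyper.Sections
import Groth.Agent.H26Hyper.DR
import Groth.Agent.H10Coh.Affine
import Groth.Prelude.Def_DeRham2
import Mathlib

/-! # Bijectivity of a restriction of hypercohomology from the complexes of sections -/

set_option autoImplicit false
set_option linter.style.haveILetI false
set_option backward.isDefEq.respectTransparency false
set_option backward.isDefEq.respectTransparency.types false

universe w v u

open CategoryTheory CategoryTheory.Limits HomologicalComplex E1Deg AlgebraicGeometry TopologicalSpace Opposite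

namespace Groth.Agent.H27LogComp

open Groth.Agent.H26Hyper

section natural

variable {A : Type u} [Category.{v} A] [Abelian A] [HasDerivedCategory.{w} A]

theorem targetIso_hom_natural {T' T : A} (s : T' ⟶ T) (i a : ℤ) (m : ℕ) (h : i + m = a) :
    (shiftFunctor (DerivedCategory A) a).map
        (DerivedCategory.Q.map ((single A (ComplexShape.up ℤ) i).map s)) ≫ (targetIso T i a m h).hom =
      (targetIso T' i a m h).hom ≫
        (shiftFunctor (DerivedCategory A) (m : ℤ)).map ((DerivedCategory.singleFunctor A 0).map s) := by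
  have h1 := (DerivedCategory.singleFunctorIsoCompQ A i).inv.naturality s
  have h2 := (((DerivedCategory.singleFunctors A).shiftIso (-i) i 0 (by omega))).inv.naturality s
  have h3 := (shiftFunctorAdd' (DerivedCategory A) (-i) a (m : ℤ) (by omega)).inv.naturality
    ((DerivedCategory.singleFunctor A 0).map s)
  simp only [Functor.comp_map] at h1 h2 h3
  let Φ : (single A (ComplexShape.up ℤ) i ⋙ DerivedCategory.Q) ⋙ shiftFunctor (DerivedCategory A) a ≅
      DerivedCategory.singleFunctor A 0 ⋙ shiftFunctor (DerivedCategory A) (m : ℤ) :=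
    Functor.isoWhiskerRight ((DerivedCategory.singleFunctorIsoCompQ A i).symm ≪≫
      (((DerivedCategory.singleFunctors A).shiftIso (-i) i 0 (by omega))).symm) _ ≪≫
      Functor.associator _ _ _ ≪≫
      Functor.isoWhiskerLeft _ (shiftFunctorAdd' (DerivedCategory A) (-i) a (m : ℤ) (by omega)).symm
  have key : ∀ Y : A, (targetIso Y i a m h).hom = Φ.hom.app Y := fun Y => by
    simp [Φ, targetIso]
  rw [key, key]
  exact Φ.hom.naturality s

theorem singleFunctor_map_unitHT {T' T : A} (s : T' ⟶ T) (n : ℤ) :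
    (DerivedCategory.singleFunctor A 0).map s ≫ unitHT T n =
      unitHT T' n ≫ (shiftFunctor (DerivedCategory A) n).map
        (DerivedCategory.Q.map ((single A (ComplexShape.up ℤ) n).map s)) := by
  have h := targetIso_hom_natural s n n 0 (by simp)
  have h4 := (shiftFunctorZero (DerivedCategory A) ℤ).inv.naturality ((DerivedCategory.singleFunctor A 0).map s)
  simp only [Functor.id_map] at h4
  rw [unitHT, unitHT, ← Category.assoc]
  erw [h4, Category.assoc, Category.assoc]
  congr 1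
  rw [Iso.comp_inv_eq, Category.assoc, h, Iso.inv_hom_id_assoc]
  rfl

theorem cocycleHom_natural {T' T : A} (s : T' ⟶ T) (K : CochainComplex A ℤ) (n : ℤ) (c : cocycles T K n)
    (hc : s ≫ c.1 ∈ cocycles T' K n) :
    (DerivedCategory.singleFunctor A 0).map s ≫ cocycleHom T K n c = cocycleHom T' K n ⟨s ≫ c.1, hc⟩ := by
  show (DerivedCategory.singleFunctor A 0).map s ≫ clsHT (cocycleMap c.1 c.2) = clsHT (cocycleMap (s ≫ c.1) hc)
  simp only [clsHT, HTmap_apply]
  rw [← Category.assoc, singleFunctor_map_unitHT, Category.assoc, ← Functor.map_comp, ← Functor.map_comp]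
  refine congrArg (fun φ => unitHT T' n ≫ (shiftFunctor (DerivedCategory A) n).map (DerivedCategory.Q.map φ)) ?_
  refine from_single_hom_ext ?_
  simp [cocycleMap, single_map_f_self]

end natural

variable {X : Scheme.{u}} (K : CochainComplex (Sheaf (Opens.grothendieckTopology X) AddCommGrpCat.{u}) ℕ)

/-- maps from the free sheaf on `W` to the `p`-th term are its sections over `W` -/
noncomputable def secW (W : X.Opens) (p : ℕ) :
    (CohCx.freeSheaf (Opens.grothendieckTopology X) W ⟶ (ext0 K).X (p : ℤ)) ≃+ (K.X p).obj.obj (op W) :=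
  AddEquiv.trans
    { toFun := fun φ => φ ≫ (K.extendXIso ComplexShape.embeddingUpNat (ComplexShape.embeddingUpNat_f p)).hom
      invFun := fun φ => φ ≫ (K.extendXIso ComplexShape.embeddingUpNat (ComplexShape.embeddingUpNat_f p)).inv
      left_inv := fun φ => by simp
      right_inv := fun φ => by simp
      map_add' := fun φ ψ => Preadditive.add_comp _ _ _ _ _ _ }
    (H10Coh.sect W (K.X p))

theorem secW_d (W : X.Opens) (p q : ℕ)
    (φ : CohCx.freeSheaf (Opens.grothendieckTopology X) W ⟶ (ext0 K).X (p : ℤ)) :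
    secW K W q (φ ≫ (ext0 K).d (p : ℤ) (q : ℤ)) = (K.d p q).hom.app (op W) (secW K W p φ) := by
  simp only [secW, AddEquiv.trans_apply]
  show H10Coh.sect W (K.X q) ((φ ≫ (ext0 K).d (p : ℤ) (q : ℤ)) ≫ _) = _
  rw [Category.assoc, ext0_d_comp, ← Category.assoc, H10Coh.sect_comp]
  rfl

theorem secW_res {W W' : X.Opens} (h : W' ≤ W) (p : ℕ)
    (φ : CohCx.freeSheaf (Opens.grothendieckTopology X) W ⟶ (ext0 K).X (p : ℤ)) :
    secW K W' p (CohCx.freeSheafMap (Opens.grothendieckTopology X) (homOfLE h) ≫ φ) =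
      (K.X p).obj.map (homOfLE h).op (secW K W p φ) := by
  simp only [secW, AddEquiv.trans_apply]
  show H10Coh.sect W' (K.X p) ((_ ≫ φ) ≫ _) = _
  rw [Category.assoc]
  exact H10Coh.sect_res h _

theorem isZero_ext0_neg {m : ℤ} (hm : m < 0) : IsZero ((ext0 K).X m) := by
  refine K.isZero_extend_X _ m fun p hp => ?_
  rw [ComplexShape.embeddingUpNat_f] at hp
  omega

theorem acyclic_ext0 {W : X.Opens}
    (hK : ∀ p q : ℕ, Subsingleton (Abelian.Ext.{u} (CohCx.freeSheaf (Opens.grothendieckTopology X) W) (K.X p) (q + 1)))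
    (p : ℤ) (q : ℕ) :
    Subsingleton (Abelian.Ext.{u} (CohCx.freeSheaf (Opens.grothendieckTopology X) W) ((ext0 K).X p) (q + 1)) := by
  by_cases hp : 0 ≤ p
  · obtain ⟨p, rfl⟩ := Int.eq_ofNat_of_zero_le hp
    haveI := hK p q
    exact (E1Deg.extCongrRight _
      (K.extendXIso ComplexShape.embeddingUpNat (ComplexShape.embeddingUpNat_f p)) (q + 1)).toEquiv.subsingleton
  · refine subsingleton_of_forall_eq 0 fun x => ?_
    rw [← Abelian.Ext.comp_mk₀_id x, (isZero_ext0_neg K (by omega : p < 0)).eq_of_src (𝟙 _) 0, Abelian.Ext.mk₀_zero,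
      Abelian.Ext.comp_zero]

variable [HasDerivedCategory.{w} (Sheaf (Opens.grothendieckTopology X) AddCommGrpCat.{u})]

theorem bijective_HDUres_of_sections {W W' : X.Opens} (h : W' ≤ W)
    (hK : ∀ p q : ℕ, Subsingleton (Abelian.Ext.{u} (CohCx.freeSheaf (Opens.grothendieckTopology X) W) (K.X p) (q + 1)))
    (hK' : ∀ p q : ℕ,
      Subsingleton (Abelian.Ext.{u} (CohCx.freeSheaf (Opens.grothendieckTopology X) W') (K.X p) (q + 1)))
    (hs0 : ∀ y : (K.X 0).obj.obj (op W'), (K.d 0 1).hom.app (op W') y = 0 →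
      ∃ z, (K.d 0 1).hom.app (op W) z = 0 ∧ (K.X 0).obj.map (homOfLE h).op z = y)
    (hs : ∀ (p : ℕ) (y : (K.X (p + 1)).obj.obj (op W')), (K.d (p + 1) (p + 2)).hom.app (op W') y = 0 →
      ∃ z b, (K.d (p + 1) (p + 2)).hom.app (op W) z = 0 ∧
        y = (K.X (p + 1)).obj.map (homOfLE h).op z + (K.d p (p + 1)).hom.app (op W') b)
    (hi0 : ∀ z : (K.X 0).obj.obj (op W), (K.X 0).obj.map (homOfLE h).op z = 0 → z = 0)
    (hi : ∀ (p : ℕ) (z : (K.X (p + 1)).obj.obj (op W)) (y : (K.X p).obj.obj (op W')),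
      (K.X (p + 1)).obj.map (homOfLE h).op z = (K.d p (p + 1)).hom.app (op W') y →
        ∃ a, z = (K.d p (p + 1)).hom.app (op W) a)
    (n : ℤ) : Function.Bijective (CohCx.HDUres (DerivedCategory.Q.obj (ext0 K)) n (homOfLE h)) := by
  have hneg : ∀ m : ℤ, m < 0 → IsZero ((ext0 K).X m) := fun m hm => isZero_ext0_neg K hm
  have hsurjW := surjective_cocycleHom.{w, u} (T := CohCx.freeSheaf (Opens.grothendieckTopology X) W) (ext0 K) 0 n hneg
    (fun p q hp hpq => by
      obtain ⟨q, rfl⟩ : ∃ q', q = q' + 1 := ⟨q - 1, by omega⟩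
      exact acyclic_ext0 K hK p q)
  have hzW := cocycleHom_eq_zero_iff.{w, u} (T := CohCx.freeSheaf (Opens.grothendieckTopology X) W) (ext0 K) 0 n hneg
    (fun p q hp hpq => by
      obtain ⟨q, rfl⟩ : ∃ q', q = q' + 1 := ⟨q - 1, by omega⟩
      exact acyclic_ext0 K hK p q)
  have hsurjW' := surjective_cocycleHom.{w, u} (T := CohCx.freeSheaf (Opens.grothendieckTopology X) W') (ext0 K) 0 n
    hneg (fun p q hp hpq => by
      obtain ⟨q, rfl⟩ : ∃ q', q = q' + 1 := ⟨q - 1, by omega⟩
      exact acyclic_ext0 K hK' p q)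
  have hzW' := cocycleHom_eq_zero_iff.{w, u} (T := CohCx.freeSheaf (Opens.grothendieckTopology X) W') (ext0 K) 0 n hneg
    (fun p q hp hpq => by
      obtain ⟨q, rfl⟩ : ∃ q', q = q' + 1 := ⟨q - 1, by omega⟩
      exact acyclic_ext0 K hK' p q)
  let r := CohCx.freeSheafMap (Opens.grothendieckTopology X) (homOfLE h)
  have hr : ∀ c : cocycles (CohCx.freeSheaf (Opens.grothendieckTopology X) W) (ext0 K) n,
      r ≫ c.1 ∈ cocycles (CohCx.freeSheaf (Opens.grothendieckTopology X) W') (ext0 K) n := fun c => by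
    show (r ≫ c.1) ≫ (ext0 K).d n (n + 1) = 0
    rw [Category.assoc, show c.1 ≫ (ext0 K).d n (n + 1) = 0 from c.2, comp_zero]
  have hnat : ∀ c : cocycles (CohCx.freeSheaf (Opens.grothendieckTopology X) W) (ext0 K) n,
      CohCx.HDUres (DerivedCategory.Q.obj (ext0 K)) n (homOfLE h)
        (cocycleHom (CohCx.freeSheaf (Opens.grothendieckTopology X) W) (ext0 K) n c) =
      cocycleHom (CohCx.freeSheaf (Opens.grothendieckTopology X) W') (ext0 K) n ⟨r ≫ c.1, hr c⟩ := fun c =>
    cocycleHom_natural r (ext0 K) n c (hr c)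
  constructor
  · refine (injective_iff_map_eq_zero _).2 fun x hx => ?_
    obtain ⟨c, rfl⟩ := hsurjW x
    rw [hnat, hzW'] at hx
    obtain ⟨b, hb⟩ := hx
    refine (hzW c).2 ?_
    rcases lt_trichotomy n 0 with hn | rfl | hn
    · exact ⟨0, (hneg n hn).eq_of_tgt _ _⟩
    · refine ⟨0, ?_⟩
      rw [(hneg (0 - 1) (by omega)).eq_of_tgt b 0, zero_comp] at hb
      have h0 : secW K W 0 c.1 = 0 := hi0 _ (by
        have := secW_res K h 0 c.1
        rw [show r ≫ c.1 = 0 from hb.symm, map_zero] at this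
        exact this.symm)
      rw [zero_comp, (secW K W 0).map_eq_zero_iff.1 h0]
    · obtain ⟨p, rfl⟩ : ∃ p : ℕ, n = ((p + 1 : ℕ) : ℤ) := ⟨(n - 1).toNat, by omega⟩
      have e : ((p + 1 : ℕ) : ℤ) - 1 = (p : ℤ) := by push_cast; omega
      have key : ∀ (m : ℤ) (hm : m = (p : ℤ)) (b : CohCx.freeSheaf (Opens.grothendieckTopology X) W' ⟶ (ext0 K).X m),
          b ≫ (ext0 K).d m ((p + 1 : ℕ) : ℤ) = r ≫ c.1 →
            ∃ a : CohCx.freeSheaf (Opens.grothendieckTopology X) W ⟶ (ext0 K).X m,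
              a ≫ (ext0 K).d m ((p + 1 : ℕ) : ℤ) = c.1 := by
        rintro m rfl b hb
        obtain ⟨a, ha⟩ := hi p (secW K W (p + 1) c.1) (secW K W' p b) (by
          rw [← secW_res, ← secW_d, hb])
        exact ⟨(secW K W p).symm a, (secW K W (p + 1)).injective (by
          rw [secW_d, AddEquiv.apply_symm_apply, ha])⟩
      exact key _ e b hb
  · intro x
    obtain ⟨c, rfl⟩ := hsurjW' x
    rcases lt_trichotomy n 0 with hn | rfl | hn
    · refine ⟨0, ?_⟩
      rw [map_zero, eq_comm, hzW']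
      exact ⟨0, (hneg n hn).eq_of_tgt _ _⟩
    · obtain ⟨z, hz, hzc⟩ := hs0 (secW K W' 0 c.1) (by
        refine (secW_d K W' 0 1 c.1).symm.trans ?_
        exact (congrArg _ (show c.1 ≫ (ext0 K).d ((0 : ℕ) : ℤ) ((1 : ℕ) : ℤ) = 0 from c.2)).trans (map_zero _))
      have hmem : (secW K W 0).symm z ∈ cocycles (CohCx.freeSheaf (Opens.grothendieckTopology X) W) (ext0 K) 0 := by
        show _ ≫ (ext0 K).d ((0 : ℕ) : ℤ) ((1 : ℕ) : ℤ) = 0
        apply (secW K W 1).injective
        rw [secW_d, AddEquiv.apply_symm_apply, map_zero, hz]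
      refine ⟨cocycleHom (CohCx.freeSheaf (Opens.grothendieckTopology X) W) (ext0 K) 0 ⟨_, hmem⟩, (hnat _).trans (congrArg _ (Subtype.ext ?_))⟩
      apply (secW K W' 0).injective
      exact (secW_res K h 0 _).trans (by rw [AddEquiv.apply_symm_apply, hzc])
    · obtain ⟨p, rfl⟩ : ∃ p : ℕ, n = ((p + 1 : ℕ) : ℤ) := ⟨(n - 1).toNat, by omega⟩
      have e2 : ((p + 1 : ℕ) : ℤ) + 1 = ((p + 2 : ℕ) : ℤ) := by push_cast; omega
      have hcyc : ∀ (W : X.Opens) (φ : CohCx.freeSheaf (Opens.grothendieckTopology X) W ⟶ (ext0 K).X ((p + 1 : ℕ) : ℤ)),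
          φ ∈ cocycles (CohCx.freeSheaf (Opens.grothendieckTopology X) W) (ext0 K) ((p + 1 : ℕ) : ℤ) ↔
            (K.d (p + 1) (p + 2)).hom.app (op W) (secW K W (p + 1) φ) = 0 := by
        intro W φ
        rw [← secW_d, AddEquiv.map_eq_zero_iff]
        show φ ≫ (ext0 K).d _ (((p + 1 : ℕ) : ℤ) + 1) = 0 ↔ _
        generalize hm : ((p + 1 : ℕ) : ℤ) + 1 = m
        obtain rfl : m = ((p + 2 : ℕ) : ℤ) := by omega
        exact Iff.rfl
      obtain ⟨z, b, hz, hzb⟩ := hs p _ ((hcyc W' c.1).1 c.2)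
      let z' : cocycles (CohCx.freeSheaf (Opens.grothendieckTopology X) W) (ext0 K) ((p + 1 : ℕ) : ℤ) :=
        ⟨(secW K W (p + 1)).symm z, (hcyc W _).2 (by rw [AddEquiv.apply_symm_apply, hz])⟩
      refine ⟨cocycleHom (CohCx.freeSheaf (Opens.grothendieckTopology X) W) (ext0 K) _ z', (hnat z').trans (eq_of_sub_eq_zero ?_)⟩
      rw [← map_sub, hzW']
      have key : ∀ (m : ℤ) (hm : m = (p : ℤ)),
          ∃ a : CohCx.freeSheaf (Opens.grothendieckTopology X) W' ⟶ (ext0 K).X m,
            a ≫ (ext0 K).d m ((p + 1 : ℕ) : ℤ) = r ≫ z'.1 - c.1 := by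
        rintro m rfl
        refine ⟨-(secW K W' p).symm b, (secW K W' (p + 1)).injective ?_⟩
        rw [Preadditive.neg_comp, map_neg, secW_d, AddEquiv.apply_symm_apply, map_sub, secW_res, hzb,
          AddEquiv.apply_symm_apply]
        abel
      exact key _ (by push_cast; omega)

end Groth.Agent.H27LogComp
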