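import Groth.Prelude.Def_CohCx
import Mathlib.Topology.Sheaves.MayerVietoris
import Mathlib.Algebra.Homology.DerivedCategory.SingleTriangle
import Mathlib.CategoryTheory.Triangulated.Pretriangulated

/-! # Mayer–Vietoris gluing for bijectivity of a restriction in hypercohomology -/

set_option autoImplicit false
set_option linter.style.haveILetI false
set_option backward.isDefEq.respectTransparency false

universe u v w

open CategoryTheory CategoryTheory.Limits CategoryTheory.Pretriangulated TopologicalSpace Opposite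

namespace Groth.Agent.H27LogComp

section triangle

variable {C : Type v} [Category.{w} C] [Preadditive C] [HasZeroObject C] [HasShift C ℤ]
  [∀ n : ℤ, (shiftFunctor C n).Additive] [Pretriangulated C]

/-- Precomposition by `a` is bijective on maps into every shift of `K`. -/
def PreBij (K : C) {A B : C} (a : A ⟶ B) : Prop :=
  ∀ n : ℤ, Function.Bijective fun φ : B ⟶ K⟦n⟧ => a ≫ φ

theorem preBij_shift {K : C} {A B : C} {a : A ⟶ B} (h : PreBij K a) : PreBij K (a⟦(1 : ℤ)⟧') := by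
  intro n
  let e := (shiftFunctorAdd' C (n - 1) (1 : ℤ) n (by omega)).app K
  constructor
  · intro φ ψ hφ
    obtain ⟨φ₀, hφ₀⟩ := (shiftFunctor C (1 : ℤ)).map_surjective (φ ≫ e.hom)
    obtain ⟨ψ₀, hψ₀⟩ := (shiftFunctor C (1 : ℤ)).map_surjective (ψ ≫ e.hom)
    have : a ≫ φ₀ = a ≫ ψ₀ := (shiftFunctor C (1 : ℤ)).map_injective (by
      simp only [Functor.map_comp, hφ₀, hψ₀]
      rw [← Category.assoc, ← Category.assoc]
      exact congrArg (· ≫ e.hom) hφ)
    rw [(h (n - 1)).1 this, hψ₀] at hφ₀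
    exact ((cancel_mono e.hom).1 hφ₀).symm
  · intro φ
    obtain ⟨φ₀, hφ₀⟩ := (shiftFunctor C (1 : ℤ)).map_surjective (φ ≫ e.hom)
    obtain ⟨ψ₀, hψ₀⟩ := (h (n - 1)).2 φ₀
    refine ⟨(shiftFunctor C (1 : ℤ)).map ψ₀ ≫ e.inv, ?_⟩
    simp only [← Category.assoc, ← Functor.map_comp]
    rw [show a ≫ ψ₀ = φ₀ from hψ₀, hφ₀, Category.assoc, e.hom_inv_id, Category.comp_id]

/-- The five lemma. -/
theorem preBij_hom₃ {K : C} {T T' : Triangle C} (hT : T ∈ distTriang C) (hT' : T' ∈ distTriang C) (φ : T' ⟶ T)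
    (h₁ : PreBij K φ.hom₁) (h₂ : PreBij K φ.hom₂) : PreBij K φ.hom₃ := by
  intro n
  have h₁' := preBij_shift h₁ n
  have h₂' := preBij_shift h₂ n
  constructor
  · refine fun z z' hz => sub_eq_zero.1 ?_
    have hz0 : φ.hom₃ ≫ (z - z') = 0 := by rw [Preadditive.comp_sub]; exact sub_eq_zero.2 hz
    have e2 : T.mor₂ ≫ (z - z') = 0 := (h₂ n).1 (show φ.hom₂ ≫ _ = φ.hom₂ ≫ 0 by
      rw [← φ.comm₂_assoc, hz0, comp_zero, comp_zero])
    obtain ⟨w, hw⟩ := T.yoneda_exact₃ hT _ e2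
    have e3 : T'.mor₃ ≫ φ.hom₁⟦(1 : ℤ)⟧' ≫ w = 0 := by rw [φ.comm₃_assoc, ← hw, hz0]
    obtain ⟨v', hv'⟩ := T'.rotate.yoneda_exact₃ (rot_of_distTriang _ hT') _ e3
    obtain ⟨v, hv⟩ := h₂'.2 v'
    have e4 : w = -(T.mor₁⟦(1 : ℤ)⟧' ≫ v) := h₁'.1 (by
      refine hv'.trans ?_
      show (-T'.mor₁⟦(1 : ℤ)⟧') ≫ v' = φ.hom₁⟦(1 : ℤ)⟧' ≫ (-(T.mor₁⟦(1 : ℤ)⟧' ≫ v))
      rw [← hv, Preadditive.neg_comp, Preadditive.comp_neg, ← Functor.map_comp_assoc, φ.comm₁,
        Functor.map_comp_assoc])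
    rw [hw, e4, Preadditive.comp_neg, comp_distTriang_mor_zero₃₁_assoc _ hT, zero_comp, neg_zero]
  · intro w
    obtain ⟨y, hy⟩ := (h₂ n).2 (T'.mor₂ ≫ w)
    have e1 : T.mor₁ ≫ y = 0 := (h₁ n).1 (show φ.hom₁ ≫ _ = φ.hom₁ ≫ 0 by
      rw [← φ.comm₁_assoc, show φ.hom₂ ≫ y = T'.mor₂ ≫ w from hy, comp_distTriang_mor_zero₁₂_assoc _ hT',
        zero_comp, comp_zero])
    obtain ⟨z₀, hz₀⟩ := T.yoneda_exact₂ hT y e1
    have e2 : T'.mor₂ ≫ (w - φ.hom₃ ≫ z₀) = 0 := by
      rw [Preadditive.comp_sub, φ.comm₂_assoc, ← hz₀, sub_eq_zero]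
      exact hy.symm
    obtain ⟨v, hv⟩ := T'.yoneda_exact₃ hT' _ e2
    obtain ⟨v₀, hv₀⟩ := h₁'.2 v
    refine ⟨z₀ + T.mor₃ ≫ v₀, ?_⟩
    show φ.hom₃ ≫ _ = w
    rw [Preadditive.comp_add, ← φ.comm₃_assoc, show φ.hom₁⟦(1 : ℤ)⟧' ≫ v₀ = v from hv₀, ← hv, add_sub_cancel]

theorem preBij_map_biprod {D : Type*} [Category D] [Preadditive D] [HasBinaryBiproducts D] (F : D ⥤ C) [F.Additive]
    {K : C} {A A' B B' : D} (a : A' ⟶ A) (b : B' ⟶ B) (ha : PreBij K (F.map a)) (hb : PreBij K (F.map b)) :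
    PreBij K (F.map (biprod.map a b)) := by
  intro n
  have key : ∀ φ : F.obj (A ⊞ B) ⟶ K⟦n⟧,
      φ = F.map biprod.fst ≫ F.map biprod.inl ≫ φ + F.map biprod.snd ≫ F.map biprod.inr ≫ φ := fun φ => by
    rw [← Functor.map_comp_assoc, ← Functor.map_comp_assoc, ← Preadditive.add_comp, ← F.map_add, biprod.total,
      F.map_id, Category.id_comp]
  constructor
  · intro φ ψ (h : F.map (biprod.map a b) ≫ φ = F.map (biprod.map a b) ≫ ψ)
    have e₂ : F.map biprod.inl ≫ φ = F.map biprod.inl ≫ ψ := (ha n).1 (by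
      have := congrArg (F.map biprod.inl ≫ ·) h
      simpa only [← Functor.map_comp_assoc, biprod.inl_map] using this)
    have e₃ : F.map biprod.inr ≫ φ = F.map biprod.inr ≫ ψ := (hb n).1 (by
      have := congrArg (F.map biprod.inr ≫ ·) h
      simpa only [← Functor.map_comp_assoc, biprod.inr_map] using this)
    rw [key φ, key ψ, e₂, e₃]
  · intro w
    obtain ⟨x, hx⟩ := (ha n).2 (F.map biprod.inl ≫ w)
    obtain ⟨y, hy⟩ := (hb n).2 (F.map biprod.inr ≫ w)
    refine ⟨F.map biprod.fst ≫ x + F.map biprod.snd ≫ y, ?_⟩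
    show F.map (biprod.map a b) ≫ _ = w
    simp only [Preadditive.comp_add, ← Functor.map_comp_assoc, biprod.map_fst, biprod.map_snd]
    simp only [Functor.map_comp, Category.assoc]
    rw [show F.map a ≫ x = _ from hx, show F.map b ≫ y = _ from hy]
    simp only [← Functor.map_comp_assoc, ← Preadditive.add_comp, ← Functor.map_add, biprod.total,
      CategoryTheory.Functor.map_id, Category.id_comp]

end triangle

variable {T : Type u} [TopologicalSpace T]
  [HasDerivedCategory.{u} (Sheaf (Opens.grothendieckTopology T) AddCommGrpCat.{u})]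
  (K : DerivedCategory (Sheaf (Opens.grothendieckTopology T) AddCommGrpCat.{u})) (U : Opens T)

/-- Restriction to the part inside `U` is bijective. -/
def ResBij (V : Opens T) : Prop :=
  ∀ n : ℤ, Function.Bijective (CohCx.HDUres K n (homOfLE (inf_le_left : V ⊓ U ≤ V)))

theorem freeSheafMap_comp {V₁ V₂ V₃ : Opens T} (a : V₁ ⟶ V₂) (b : V₂ ⟶ V₃) :
    CohCx.freeSheafMap (Opens.grothendieckTopology T) a ≫ CohCx.freeSheafMap (Opens.grothendieckTopology T) b = CohCx.freeSheafMap (Opens.grothendieckTopology T) (a ≫ b) := by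
  simp [CohCx.freeSheafMap, ← Functor.map_comp, ← Functor.whiskerRight_comp]

theorem resBij_iff (V : Opens T) :
    ResBij K U V ↔
      PreBij K ((DerivedCategory.singleFunctor (Sheaf (Opens.grothendieckTopology T) AddCommGrpCat.{u}) 0).map (CohCx.freeSheafMap (Opens.grothendieckTopology T) (homOfLE (inf_le_left : V ⊓ U ≤ V)))) := Iff.rfl

/-- Gluing. -/
theorem resBij_sup {V₁ V₂ : Opens T} (h₁ : ResBij K U V₁) (h₂ : ResBij K U V₂) (h₁₂ : ResBij K U (V₁ ⊓ V₂)) :
    ResBij K U (V₁ ⊔ V₂) := by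
  let S := Opens.mayerVietorisSquare V₁ V₂
  let S' := Opens.mayerVietorisSquare'
    { X₁ := V₁ ⊓ V₂ ⊓ U
      X₂ := V₁ ⊓ U
      X₃ := V₂ ⊓ U
      X₄ := (V₁ ⊔ V₂) ⊓ U
      f₁₂ := homOfLE (inf_le_inf_right U inf_le_left)
      f₁₃ := homOfLE (inf_le_inf_right U inf_le_right)
      f₂₄ := homOfLE (inf_le_inf_right U le_sup_left)
      f₃₄ := homOfLE (inf_le_inf_right U le_sup_right)
      fac := Subsingleton.elim _ _ } (inf_sup_right V₁ V₂ U) (inf_inf_distrib_right V₁ V₂ U)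
  let i₁ := CohCx.freeSheafMap (Opens.grothendieckTopology T) (homOfLE (inf_le_left : V₁ ⊓ V₂ ⊓ U ≤ V₁ ⊓ V₂))
  let i₂ := CohCx.freeSheafMap (Opens.grothendieckTopology T) (homOfLE (inf_le_left : V₁ ⊓ U ≤ V₁))
  let i₃ := CohCx.freeSheafMap (Opens.grothendieckTopology T) (homOfLE (inf_le_left : V₂ ⊓ U ≤ V₂))
  let i₄ := CohCx.freeSheafMap (Opens.grothendieckTopology T) (homOfLE (inf_le_left : (V₁ ⊔ V₂) ⊓ U ≤ V₁ ⊔ V₂))
  have hsq : ∀ {A B C D : Opens T} (a : A ⟶ B) (b : B ⟶ D) (c : A ⟶ C) (e : C ⟶ D),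
      CohCx.freeSheafMap (Opens.grothendieckTopology T) a ≫ CohCx.freeSheafMap (Opens.grothendieckTopology T) b = CohCx.freeSheafMap (Opens.grothendieckTopology T) c ≫ CohCx.freeSheafMap (Opens.grothendieckTopology T) e :=
    fun a b c e => by rw [freeSheafMap_comp, freeSheafMap_comp, Subsingleton.elim (a ≫ b) (c ≫ e)]
  let m : S'.shortComplex ⟶ S.shortComplex :=
    { τ₁ := i₁
      τ₂ := biprod.map i₂ i₃
      τ₃ := i₄
      comm₁₂ := by
        refine biprod.hom_ext _ _ ?_ ?_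
        · simp only [GrothendieckTopology.MayerVietorisSquare.shortComplex_f, Category.assoc]
          erw [biprod.lift_fst, biprod.map_fst, ← Category.assoc, biprod.lift_fst]
          exact hsq _ _ _ _
        · simp only [GrothendieckTopology.MayerVietorisSquare.shortComplex_f, Category.assoc]
          erw [biprod.lift_snd, biprod.map_snd, ← Category.assoc, biprod.lift_snd]
          rw [Preadditive.neg_comp, Preadditive.comp_neg]
          exact congrArg Neg.neg (hsq _ _ _ _)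
      comm₂₃ := by
        refine biprod.hom_ext' _ _ ?_ ?_
        · simp only [GrothendieckTopology.MayerVietorisSquare.shortComplex_g]
          erw [biprod.inl_map_assoc, biprod.inl_desc, biprod.inl_desc_assoc]
          exact hsq _ _ _ _
        · simp only [GrothendieckTopology.MayerVietorisSquare.shortComplex_g]
          erw [biprod.inr_map_assoc, biprod.inr_desc, biprod.inr_desc_assoc]
          exact hsq _ _ _ _ }
  refine (resBij_iff K U _).2 (preBij_hom₃ S.shortComplex_shortExact.singleTriangle_distinguished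
    S'.shortComplex_shortExact.singleTriangle_distinguished
    (ShortComplex.ShortExact.singleTriangle.map S'.shortComplex_shortExact S.shortComplex_shortExact m)
    ((resBij_iff K U _).1 h₁₂)
    (preBij_map_biprod _ i₂ i₃ ((resBij_iff K U _).1 h₁) ((resBij_iff K U _).1 h₂)))

end Groth.Agent.H27LogComp
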