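import Groth.Agent.H27LogComp.Local
import Groth.Agent.H27LogComp.MV
import Groth.Agent.H27LogComp.HDU
import Groth.Agent.H22Alg.ExtPowHom
import Groth.Agent.H8Props.FinLocFree.Sheaf
import Mathlib

/-! # The log complex computes the de Rham cohomology of the complement in characteristic zero -/

set_option autoImplicit false
set_option linter.style.haveILetI false
set_option backward.isDefEq.respectTransparency false
set_option backward.isDefEq.respectTransparency.types false

universe u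

open CategoryTheory CategoryTheory.Limits AlgebraicGeometry TopologicalSpace Opposite

namespace Groth.Agent.H27LogComp

open Groth.Agent.H27LogNCD Groth.Agent.H27LogTwist

variable {X S : Scheme.{u}} {f : X ⟶ S} {Ω : X.Modules} {d : OmegaSh.Der f Ω} {r : ℕ}
  {D : Fin r → X.IdealSheafData} {Λ : LogNCD.LogMod d D} (K : DeRhamSh.Cx f Λ.L (LogNCD.der Λ))

theorem isRegular_rs {U V : X.Opens} (hU : IsAffineOpen U) (hV : IsAffineOpen V) (h : V ≤ U) {a : Γ(X, U)}
    (ha : IsRegular a) : IsRegular (rs h a) := by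
  letI := (X.presheaf.map (homOfLE h).op).hom.toAlgebra
  haveI : Module.Flat Γ(X, U) Γ(X, V) := by
    have := Scheme.Hom.flat_appLE (𝟙 X) hU hV h
    simpa [RingHom.Flat, Scheme.Hom.appLE] using this
  have h2 : IsSMulRegular Γ(X, V) (algebraMap Γ(X, U) Γ(X, V) a) :=
    IsSMulRegular.of_flat (R := Γ(X, U)) (S := Γ(X, V)) (isLeftRegular_iff.1 ha.left)
  exact ⟨isLeftRegular_iff.2 h2, (isLeftRegular_iff.2 h2).right_of_commute (Commute.all _)⟩

theorem chart_res {U W : X.Opens} {g : Fin r → Γ(X, U)} {dl : Fin r → Γ(Λ.L, U)} (hc : Chart Λ Λ.L U g dl)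
    (hW : IsAffineOpen W) (h : W ≤ U) :
    ∃ (g' : Fin r → Γ(X, W)) (dl' : Fin r → Γ(Λ.L, W)), Chart Λ Λ.L W g' dl' := by
  obtain ⟨dl', hf⟩ := logMod_frame Λ hW (g := fun i => rs h (g i))
    fun i => ideal_res hc.frame.affine hW h (hc.frame.ideal i)
  obtain ⟨V0, hV0, hle⟩ := hc.base
  obtain ⟨n, b, hb⟩ := hc.basE
  exact ⟨_, dl', hf, ⟨V0, hV0, h.trans hle⟩, fun i => isRegular_rs hc.frame.affine hW h (hc.regular i),
    ⟨n, _, hb.res h⟩, ⟨n, _, hb.res h⟩⟩

/-- sections of the `p`-th term, read as forms -/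
noncomputable def TT (W : X.affineOpens) (p : ℕ) : (K.K.X p).obj.obj (op W.1) → FF Λ W.1 p :=
  fun y => K.loc p W ((K.iso p).hom.hom.app (op W.1) y)

theorem TT_bijective (W : X.affineOpens) (p : ℕ) : Function.Bijective (TT K W p) :=
  (K.loc p W).bijective.comp ⟨fun a b h => by rw [← iso_inv_hom K p W.1 a, h, iso_inv_hom],
    fun b => ⟨_, iso_hom_inv K p W.1 b⟩⟩

theorem TT_zero (W : X.affineOpens) (p : ℕ) : TT K W p 0 = 0 := by simp [TT]

theorem TT_add (W : X.affineOpens) (p : ℕ) (a b : (K.K.X p).obj.obj (op W.1)) :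
    TT K W p (a + b) = TT K W p a + TT K W p b := by simp [TT]

theorem TT_d (W : X.affineOpens) (p : ℕ) (y : (K.K.X p).obj.obj (op W.1)) :
    TT K W (p + 1) ((K.K.d p (p + 1)).hom.app (op W.1) y) = df K W p (TT K W p y) := by
  simp only [TT, df, AddMonoidHom.coe_mk, ZeroHom.coe_mk, LinearEquiv.symm_apply_apply, iso_inv_hom]

theorem TT_res {W V : X.affineOpens} (h : V.1 ≤ W.1) (p : ℕ) (y : (K.K.X p).obj.obj (op W.1)) :
    TT K V p ((K.K.X p).obj.map (homOfLE h).op y) = rf K p h (TT K W p y) := by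
  show K.loc p V _ = K.loc p V (rm (K.term p) h ((K.loc p W).symm (K.loc p W _)))
  rw [LinearEquiv.symm_apply_apply]
  exact congrArg (K.loc p V) (natural (K.iso p).hom h y)

variable (hd : OmegaSh.IsUniversal d) (hunit : ∀ (W : X.Opens) (n : ℕ), n ≠ 0 → IsUnit (n : Γ(X, W)))
  [HasDerivedCategory.{u} (Sheaf (Opens.grothendieckTopology X) AddCommGrpCat.{u})]

include hd hunit

theorem resBij_chart (hq : ∀ p, Coh.IsQCoh (K.term p)) (U : X.Opens)
    (hU : (U : Set X) = (⋃ i, ((D i).support : Set X))ᶜ) {W : X.Opens} {g : Fin r → Γ(X, W)}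
    {dl : Fin r → Γ(Λ.L, W)} (hc : Chart Λ Λ.L W g dl) :
    ResBij (DerivedCategory.Q.obj K.KZ) U W := by
  have hWV : W ⊓ U = (Chart.V hc.frame.affine g).1 := by
    refine TopologicalSpace.Opens.ext (Set.ext fun x => ?_)
    show x ∈ W ∧ x ∈ (U : Set X) ↔ x ∈ (X.basicOpen (∏ i, g i) : X.Opens)
    rw [hU, Set.mem_compl_iff, Set.mem_iUnion, not_exists]
    constructor
    · rintro ⟨hx, hn⟩
      rw [Scheme.mem_basicOpen _ _ x hx, map_prod, IsUnit.prod_univ_iff]
      intro i
      by_contra hi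
      refine hn i ?_
      have := (D i).coe_support_inter ⟨W, hc.frame.affine⟩
      have hmem : x ∈ ((D i).support : Set X) ∩ W := by
        rw [this, hc.frame.ideal i]
        refine ⟨?_, hx⟩
        rw [Scheme.zeroLocus_span, Scheme.zeroLocus_singleton]
        exact fun hb => hi ((Scheme.mem_basicOpen _ _ x hx).1 hb)
      exact hmem.1
    · intro hx
      have hxW : x ∈ W := X.basicOpen_le _ hx
      refine ⟨hxW, fun i hi => ?_⟩
      have := (D i).coe_support_inter ⟨W, hc.frame.affine⟩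
      have hmem : x ∈ ((D i).support : Set X) ∩ W := ⟨hi, hxW⟩
      rw [this, hc.frame.ideal i, Scheme.zeroLocus_span, Scheme.zeroLocus_singleton] at hmem
      rw [Scheme.mem_basicOpen _ _ x hxW, map_prod, IsUnit.prod_univ_iff] at hx
      exact hmem.1 ((Scheme.mem_basicOpen _ _ x hxW).2 (hx i))
  have hacyc : ∀ (A : X.affineOpens) (p q : ℕ), Subsingleton
      (Abelian.Ext.{u} (CohCx.freeSheaf (Opens.grothendieckTopology X) A.1) (K.K.X p) (q + 1)) := fun A p q => by
    haveI : (K.term p).IsQuasicoherent := hq p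
    exact @Equiv.subsingleton _ _ (E1Deg.extCongrRight _ (K.iso p) (q + 1)).toEquiv
      (H10Coh.subsingleton_HnM_of_isAffineOpen (K.term p) A.2 q)
  intro n
  revert n
  suffices ∀ (V : X.Opens) (h : V ≤ W), V = (Chart.V hc.frame.affine g).1 →
      ∀ n, Function.Bijective (CohCx.HDUres (DerivedCategory.Q.obj K.KZ) n (homOfLE h)) from this _ _ hWV
  rintro V h rfl n
  let Wa : X.affineOpens := ⟨W, hc.frame.affine⟩
  let Va : X.affineOpens := Chart.V hc.frame.affine g
  have hu := hunit W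
  refine bijective_HDUres_of_sections K.K h (hacyc Wa) (hacyc Va) (fun y hy => ?_) (fun p y hy => ?_)
    (fun z hz => ?_) (fun p z y hzy => ?_) n
  · obtain ⟨z, hz, hzy⟩ := (surj_on_chart K hc hd hu).1 (TT K Va 0 y) (by rw [← TT_d, hy, TT_zero])
    obtain ⟨z', rfl⟩ := (TT_bijective K Wa 0).2 z
    refine ⟨z', (TT_bijective K Wa 1).1 (by rw [TT_d, hz, TT_zero]), (TT_bijective K Va 0).1 ?_⟩
    rw [TT_res (W := Wa) (V := Va), hzy]
  · obtain ⟨z, b, hz, hzy⟩ := (surj_on_chart K hc hd hu).2 p (TT K Va (p + 1) y) (by rw [← TT_d, hy, TT_zero])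
    obtain ⟨z', rfl⟩ := (TT_bijective K Wa (p + 1)).2 z
    obtain ⟨b', rfl⟩ := (TT_bijective K Va p).2 b
    refine ⟨z', b', (TT_bijective K Wa (p + 2)).1 (by rw [TT_d, hz, TT_zero]), (TT_bijective K Va (p + 1)).1 ?_⟩
    rw [TT_add, TT_res (W := Wa) (V := Va), TT_d, hzy]
  · refine (TT_bijective K Wa 0).1 ?_
    rw [TT_zero]
    exact inj_on_chart_zero K hc _ (by rw [← TT_res (W := Wa) (V := Va), hz, TT_zero])
  · obtain ⟨a, ha⟩ := inj_on_chart K hc hd hu p (TT K Wa (p + 1) z) (TT K Va p y)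
      (by rw [← TT_res (W := Wa) (V := Va), hzy, TT_d])
    obtain ⟨a', rfl⟩ := (TT_bijective K Wa p).2 a
    exact ⟨a', (TT_bijective K Wa (p + 1)).1 (by rw [TT_d, ha])⟩

theorem resBij_sup_charts [X.IsSeparated] (hq : ∀ p, Coh.IsQCoh (K.term p)) (U : X.Opens)
    (hU : (U : Set X) = (⋃ i, ((D i).support : Set X))ᶜ) {ι : Type*} (s : Finset ι) :
    ∀ W : ι → X.Opens, (∀ i ∈ s, ∃ (g : Fin r → Γ(X, W i)) (dl : Fin r → Γ(Λ.L, W i)), Chart Λ Λ.L (W i) g dl) →
      s.Nonempty → ResBij (DerivedCategory.Q.obj K.KZ) U (s.sup W) := by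
  classical
  induction s using Finset.induction with
  | empty => intro W _ hs; exact absurd hs Finset.not_nonempty_empty
  | insert a t ha ih =>
    intro W hW _
    obtain ⟨ga, dla, hca⟩ := hW a (Finset.mem_insert_self a t)
    rw [Finset.sup_insert]
    rcases t.eq_empty_or_nonempty with rfl | ht
    · rw [Finset.sup_empty, sup_bot_eq]
      exact resBij_chart K hd hunit hq U hU hca
    refine resBij_sup _ _ (resBij_chart K hd hunit hq U hU hca)
      (ih W (fun i hi => hW i (Finset.mem_insert_of_mem hi)) ht) ?_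
    rw [Finset.sup_inf_distrib_left]
    refine ih _ (fun i hi => ?_) ht
    obtain ⟨gi, dli, hci⟩ := hW i (Finset.mem_insert_of_mem hi)
    exact chart_res hca (hca.frame.affine.inf hci.frame.affine) inf_le_left

theorem resBij_top [X.IsSeparated] [CompactSpace X] [Nonempty X] [Smooth f] (hD : LogNCD.IsNCD D f) (U : X.Opens)
    (hU : (U : Set X) = (⋃ i, ((D i).support : Set X))ᶜ) :
    ResBij (DerivedCategory.Q.obj K.KZ) U ⊤ := by
  have hL := isFinLocFree_logMod hd hD Λ
  have hq : ∀ p, Coh.IsQCoh (K.term p) := fun p =>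
    H22Alg.ExtPowHom.isQCoh_of_isExtPow (H8Props.FinLocFree.isQCoh_of_isFinLocFree _ hL) (K.isExtPow p)
  have hch := fun x : X => exists_chart_near hd hD Λ hL ⊤ x trivial
  choose W g dl hxW _ hc using hch
  obtain ⟨s, hs⟩ := CompactSpace.elim_nhds_subcover (fun x => (W x : Set X))
    fun x => (W x).2.mem_nhds (hxW x)
  have htop : s.sup W = ⊤ := by
    refine top_le_iff.1 fun x _ => ?_
    have hx : x ∈ ⋃ y ∈ s, (W y : Set X) := hs.ge trivial
    obtain ⟨y, hy, hxy⟩ := Set.mem_iUnion₂.1 hx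
    exact Finset.le_sup (f := W) hy hxy
  have hne : s.Nonempty := by
    obtain ⟨x⟩ := (inferInstance : Nonempty X)
    obtain ⟨y, hy, -⟩ := Set.mem_iUnion₂.1 (hs.ge (Set.mem_univ x))
    exact ⟨y, hy⟩
  rw [← htop]
  exact resBij_sup_charts K hd hunit hq U hU s W (fun i _ => ⟨g i, dl i, hc i⟩) hne

end Groth.Agent.H27LogComp
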