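import Groth.Agent.H27LogComp.Forms
import Groth.Agent.H27LogComp.Algebra
import Groth.Agent.H27LogTwist.Main
import Groth.Agent.H27LogTwist.Reverse
import Mathlib

/-! # In characteristic zero the log complex computes the complex of the complement, on a chart -/

set_option autoImplicit false
set_option linter.style.haveILetI false
set_option backward.isDefEq.respectTransparency false
set_option backward.isDefEq.respectTransparency.types false

universe u

open CategoryTheory CategoryTheory.Limits AlgebraicGeometry TopologicalSpace Opposite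
open scoped TensorProduct

namespace Groth.Agent.H27LogComp

open Groth.Agent.H27LogNCD Groth.Agent.H27LogTwist exteriorPower

variable {X S : Scheme.{u}} {f : X ⟶ S} {Ω : X.Modules} {d : OmegaSh.Der f Ω} {r : ℕ}
  {D : Fin r → X.IdealSheafData} {Λ : LogNCD.LogMod d D} (K : DeRhamSh.Cx f Λ.L (LogNCD.der Λ))
  {U : X.Opens} {g : Fin r → Γ(X, U)} {dl : Fin r → Γ(Λ.L, U)} (hc : Chart Λ Λ.L U g dl)

theorem rf_DN {U V : X.affineOpens} (h : V.1 ≤ U.1) (β : Γ(Λ.L, U.1)) (N p : ℕ) (z : FF Λ U.1 p) :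
    rf K (p + 1) h (DN (df K U) β N p z) = DN (df K V) (rm Λ.L h β) N p (rf K p h z) := by
  rw [DN_apply, DN_apply, map_sub, df_rf, rf_smul, rf_wf]
  simp [rs]

theorem rs_pow {U V : X.Opens} (h : V ≤ U) (a : Γ(X, U)) (N : ℕ) : rs h (a ^ N) = rs h a ^ N := map_pow _ _ _

include hc

theorem exists_pow_smul_eq_rf (p : ℕ) (y : FF Λ (Chart.V hc.frame.affine g).1 p) :
    ∃ (N : ℕ) (z : FF Λ U p), rs (Chart.V_le hc.frame.affine g) (∏ i, g i) ^ N • y =
      rf K p (U := ⟨U, hc.frame.affine⟩) (V := Chart.V hc.frame.affine g) (Chart.V_le hc.frame.affine g) z := by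
  classical
  obtain ⟨n, b, hb⟩ := hc.basL
  let h := Chart.V_le hc.frame.affine g
  let G' := rs h (∏ i, g i)
  let BV := (hb.basis h).exteriorPower p
  rw [← BV.sum_repr y]
  refine Finset.sum_induction _ (fun y => ∃ (N : ℕ) (z : FF Λ U p), G' ^ N • y =
      rf K p (U := ⟨U, hc.frame.affine⟩) (V := Chart.V hc.frame.affine g) h z) ?_ ?_ fun s _ => ?_
  · rintro a b ⟨N, z, hz⟩ ⟨M, w, hw⟩
    refine ⟨N + M, (∏ i, g i) ^ M • z + (∏ i, g i) ^ N • w, ?_⟩
    rw [map_add, rf_smul, rf_smul, ← hz, ← hw, smul_add, smul_smul, smul_smul]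
    simp only [rs_pow, G', h]
    rw [← pow_add, ← pow_add, add_comm M N]
  · exact ⟨0, 0, by rw [smul_zero, map_zero]⟩
  · have hsurj : ∀ a : Γ(X, X.basicOpen (∏ i, g i)), ∃ (N : ℕ) (c : Γ(X, U)),
        a * rs (X.basicOpen_le (∏ i, g i)) (∏ i, g i) ^ N = rs (X.basicOpen_le (∏ i, g i)) c := fun a => by
      haveI := hc.frame.affine.isLocalization_basicOpen (∏ i, g i)
      obtain ⟨⟨c, ⟨_, N, rfl⟩⟩, hN⟩ := IsLocalization.surj (Submonoid.powers (∏ i, g i)) a
      refine ⟨N, c, ?_⟩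
      rw [← rs_pow]
      exact hN
    obtain ⟨N, c, hN⟩ := hsurj (BV.repr y s)
    refine ⟨N, c • ((hb.basis (le_refl U)).exteriorPower p s), ?_⟩
    rw [rf_smul, smul_smul]
    have key : rf K p (U := ⟨U, hc.frame.affine⟩) (V := Chart.V hc.frame.affine g) h
        ((hb.basis (le_refl U)).exteriorPower p s) = BV s := by
      simp only [BV, exteriorPower.basis_apply, exteriorPower.ιMulti_family, rf_ιMulti, Function.comp_def,
        OBas.basis_apply]
      simp [rm]
      exact rf_ιMulti K p (U := ⟨U, hc.frame.affine⟩) (V := Chart.V hc.frame.affine g) h _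
    rw [key]
    congr 1
    exact (mul_comm _ _).trans hN

theorem smul_eq_zero_forms {c : Γ(X, U)} (hreg : IsRegular c) (p : ℕ) (z : FF Λ U p) (hz : c • z = 0) : z = 0 := by
  obtain ⟨nL, bL, hL⟩ := hc.basL
  let b := (hL.basis (le_refl U)).exteriorPower p
  refine b.repr.map_eq_zero_iff.1 (Finsupp.ext fun a => ?_)
  have := congrArg (fun y => b.repr y a) hz
  simp only [map_smul, Finsupp.smul_apply, smul_eq_mul, map_zero, Finsupp.zero_apply] at this ⊢
  exact hreg.left (this.trans (mul_zero c).symm)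

theorem dlog_prod : dlog Λ U (∏ i, g i) = (∏ i, g i) • ∑ i, dl i := by
  have := dlog_prod_pow hc fun _ => 1
  simp only [pow_one, Nat.cast_one, one_smul] at this
  exact this.symm

theorem good_df (hd : OmegaSh.IsUniversal d) (hunit : ∀ n : ℕ, n ≠ 0 → IsUnit (n : Γ(X, U))) (N : ℕ) :
    (∀ z : FF Λ U 0, (∃ w, DN (df K ⟨U, hc.frame.affine⟩) (∑ i, dl i) N 0 z = (∏ i, g i) ^ N • w) →
        ∃ e, z = (∏ i, g i) ^ N • e) ∧
      ∀ (p : ℕ) (z : FF Λ U (p + 1)),
        (∃ w, DN (df K ⟨U, hc.frame.affine⟩) (∑ i, dl i) N (p + 1) z = (∏ i, g i) ^ N • w) →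
        ∃ a e, z = DN (df K ⟨U, hc.frame.affine⟩) (∑ i, dl i) N p a + (∏ i, g i) ^ N • e := by
  haveI := hc.finite_L
  obtain ⟨nL, bL, hL⟩ := hc.basL
  obtain ⟨V0, hV0, hle⟩ := hc.base
  have hU := hc.frame.affine
  choose v hv using fun i => exists_lift_res (Λ := Λ) hU i hL
  have hdvd : ∀ i (a : Γ(X, U)), cls D i U a = 0 → g i ∣ a := fun i a ha => by
    have := mem_ideal_of_cls_eq_zero hU ha
    rwa [hc.frame.ideal i, Ideal.mem_span_singleton] at this
  have hexact : ∀ i t, g i ∣ v i (dlog Λ U t) := fun i t => hdvd i _ (by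
    rw [hv, dlog_eq]; exact res_app_form Λ.res_ι i U _)
  have hvdl : ∀ i j, g i ∣ v i (dl j) - (if i = j then 1 else 0) := fun i j => hdvd i _ (by
    rw [cls_sub, hv]
    by_cases h : i = j
    · subst h; rw [if_pos rfl, hc.frame.res_dl, sub_self]
    · rw [if_neg h, hc.frame.res_dl_ne j i (Ne.symm h), cls_zero, sub_zero])
  refine good_DN (dB := dlog Λ U) (Set.range dl ∪ Set.range (dlog Λ U)) g dl v (span_dlog hd hc.frame hV0 hle)
    (dlog_one U) (dlog_mul U) (fun i => (hc.frame.smul_dl i).symm) hexact (fun i s hs => ?_) hvdl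
    (df_leib K hc hd) (df_closed K hc) (df_sq K ⟨U, hc.frame.affine⟩) (fun i p x => smul_eq_zero_forms hc (hc.regular i) p x) hunit
    (dlog_prod hc) N
  rcases hs with ⟨j, rfl⟩ | ⟨t, rfl⟩
  · exact ⟨if i = j then 1 else 0, by simpa [apply_ite ((↑) : ℤ → Γ(X, U))] using hvdl i j⟩
  · exact ⟨0, by simpa using hexact i t⟩

theorem rs_prod_unit : ∃ u, u * rs (Chart.V_le hc.frame.affine g) (∏ i, g i) = 1 :=
  (RingedSpace.isUnit_res_basicOpen X.toRingedSpace (∏ i, g i)).exists_left_inv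

theorem rf_DN_eq_smul_df (hd : OmegaSh.IsUniversal d) (N p : ℕ) (z : FF Λ U p)
    (y : FF Λ (Chart.V hc.frame.affine g).1 p)
    (hy : rs (Chart.V_le hc.frame.affine g) (∏ i, g i) ^ N • y =
      rf K p (U := ⟨U, hc.frame.affine⟩) (V := Chart.V hc.frame.affine g) (Chart.V_le hc.frame.affine g) z) :
    rf K (p + 1) (U := ⟨U, hc.frame.affine⟩) (V := Chart.V hc.frame.affine g) (Chart.V_le hc.frame.affine g)
        (DN (df K ⟨U, hc.frame.affine⟩) (∑ i, dl i) N p z) =
      rs (Chart.V_le hc.frame.affine g) (∏ i, g i) ^ N • df K (Chart.V hc.frame.affine g) p y := by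
  rw [rf_DN, ← hy]
  refine DN_smul_pow (dB := dlog Λ (Chart.V hc.frame.affine g).1) ?_ (dlog_one _) (dlog_mul _)
    (df_leib_open K _ (hc.span_V hd)) N p y
  have h1 := congrArg (rm Λ.L (Chart.V_le hc.frame.affine g)) (dlog_prod hc)
  rwa [rm_smul, dlog_res] at h1

/-- The restriction of the log complex to the complement is surjective on cocycle classes. -/
theorem surj_on_chart (hd : OmegaSh.IsUniversal d) (hunit : ∀ n : ℕ, n ≠ 0 → IsUnit (n : Γ(X, U))) :
    (∀ y : FF Λ (Chart.V hc.frame.affine g).1 0, df K (Chart.V hc.frame.affine g) 0 y = 0 →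
      ∃ z, df K ⟨U, hc.frame.affine⟩ 0 z = 0 ∧
        y = rf K 0 (U := ⟨U, hc.frame.affine⟩) (V := Chart.V hc.frame.affine g) (Chart.V_le hc.frame.affine g) z) ∧
    ∀ (p : ℕ) (y : FF Λ (Chart.V hc.frame.affine g).1 (p + 1)), df K (Chart.V hc.frame.affine g) (p + 1) y = 0 →
      ∃ z b, df K ⟨U, hc.frame.affine⟩ (p + 1) z = 0 ∧ y =
        rf K (p + 1) (U := ⟨U, hc.frame.affine⟩) (V := Chart.V hc.frame.affine g) (Chart.V_le hc.frame.affine g) z +
          df K (Chart.V hc.frame.affine g) p b := by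
  obtain ⟨u, hu⟩ := rs_prod_unit hc
  set h := Chart.V_le hc.frame.affine g
  set G' := rs h (∏ i, g i) with hG'
  have hcan : ∀ (N q : ℕ) (a b : FF Λ (Chart.V hc.frame.affine g).1 q), G' ^ N • a = G' ^ N • b → a = b := by
    intro N q a b hab
    have := congrArg (fun t => u ^ N • t) hab
    simpa only [smul_smul, ← mul_pow, hu, one_pow, one_smul] using this
  have hcl : ∀ (q : ℕ) (y : FF Λ (Chart.V hc.frame.affine g).1 q), df K (Chart.V hc.frame.affine g) q y = 0 →
      ∀ (N : ℕ) (z : FF Λ U q), G' ^ N • y =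
        rf K q (U := ⟨U, hc.frame.affine⟩) (V := Chart.V hc.frame.affine g) h z →
        DN (df K ⟨U, hc.frame.affine⟩) (∑ i, dl i) N q z = 0 := fun q y hy N z hz =>
    rf_V_injective K hc (q + 1) (by rw [rf_DN_eq_smul_df K hc hd N q z y hz, hy, smul_zero, map_zero])
  constructor
  · intro y hy
    obtain ⟨N, z, hz⟩ := exists_pow_smul_eq_rf K hc 0 y
    obtain ⟨e, rfl⟩ := (good_df K hc hd hunit N).1 z ⟨0, by rw [hcl 0 y hy N z hz, smul_zero]⟩
    have hye := hcan N 0 _ _ (hz.trans ((rf_smul K 0 _ _ _).trans (congrArg (· • _) (rs_pow h _ N))))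
    exact ⟨e, rf_V_injective K hc 1 (by rw [df_rf, ← hye, hy, map_zero]), hye⟩
  · intro p y hy
    obtain ⟨N, z, hz⟩ := exists_pow_smul_eq_rf K hc (p + 1) y
    obtain ⟨a, e, rfl⟩ := (good_df K hc hd hunit N).2 p z ⟨0, by rw [hcl (p + 1) y hy N z hz, smul_zero]⟩
    let b := u ^ N • rf K p (U := ⟨U, hc.frame.affine⟩) (V := Chart.V hc.frame.affine g) h a
    have hb : G' ^ N • b = rf K p (U := ⟨U, hc.frame.affine⟩) (V := Chart.V hc.frame.affine g) h a := by
      show G' ^ N • u ^ N • _ = _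
      rw [smul_smul, ← mul_pow, mul_comm G' u, hu, one_pow, one_smul]
    have hye : y = rf K (p + 1) (U := ⟨U, hc.frame.affine⟩) (V := Chart.V hc.frame.affine g) h e +
        df K (Chart.V hc.frame.affine g) p b := by
      refine hcan N (p + 1) _ _ ?_
      rw [hz, smul_add, ← rf_DN_eq_smul_df K hc hd N p a b hb, map_add, rf_smul, rs_pow]
      exact add_comm _ _
    refine ⟨e, b, rf_V_injective K hc (p + 1 + 1) ?_, hye⟩
    rw [hye, map_add, df_sq, add_zero] at hy
    rw [df_rf, hy, map_zero]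

/-- ... and injective. -/
theorem inj_on_chart (hd : OmegaSh.IsUniversal d) (hunit : ∀ n : ℕ, n ≠ 0 → IsUnit (n : Γ(X, U))) (p : ℕ)
    (z : FF Λ U (p + 1)) (y : FF Λ (Chart.V hc.frame.affine g).1 p)
    (hy : rf K (p + 1) (U := ⟨U, hc.frame.affine⟩) (V := Chart.V hc.frame.affine g) (Chart.V_le hc.frame.affine g) z =
      df K (Chart.V hc.frame.affine g) p y) : ∃ a, z = df K ⟨U, hc.frame.affine⟩ p a := by
  obtain ⟨N, a, ha⟩ := exists_pow_smul_eq_rf K hc p y
  have h1 : DN (df K ⟨U, hc.frame.affine⟩) (∑ i, dl i) N p a = (∏ i, g i) ^ N • z :=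
    rf_V_injective K hc (p + 1) (by
      rw [rf_DN_eq_smul_df K hc hd N p a y ha, rf_smul, hy, rs_pow])
  have hDN : ∀ q (e : FF Λ U q), DN (df K ⟨U, hc.frame.affine⟩) (∑ i, dl i) N q ((∏ i, g i) ^ N • e) =
      (∏ i, g i) ^ N • df K ⟨U, hc.frame.affine⟩ q e :=
    DN_smul_pow (dlog_prod hc) (dlog_one _) (dlog_mul _) (df_leib K hc hd) N
  have hcan : ∀ q (a b : FF Λ U q), (∏ i, g i) ^ N • a = (∏ i, g i) ^ N • b → a = b := fun q a b hab =>
    sub_eq_zero.1 (smul_eq_zero_forms hc (hc.regular_prod.pow N) q _ (by rw [smul_sub, hab, sub_self]))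
  cases p with
  | zero =>
    obtain ⟨e, rfl⟩ := (good_df K hc hd hunit N).1 a ⟨z, h1⟩
    exact ⟨e, (hcan _ _ _ ((hDN 0 e).symm.trans h1)).symm⟩
  | succ q =>
    obtain ⟨b, e, rfl⟩ := (good_df K hc hd hunit N).2 q a ⟨z, h1⟩
    rw [map_add, hDN, DN_sq (dlog_prod hc) (df_leib K hc hd) (df_sq K ⟨U, hc.frame.affine⟩)
      (fun p x => smul_eq_zero_forms hc hc.regular_prod p x), zero_add] at h1
    exact ⟨e, (hcan _ _ _ h1).symm⟩

theorem inj_on_chart_zero (z : FF Λ U 0)
    (hy : rf K 0 (U := ⟨U, hc.frame.affine⟩) (V := Chart.V hc.frame.affine g) (Chart.V_le hc.frame.affine g) z = 0) :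
    z = 0 := rf_V_injective K hc 0 (hy.trans (map_zero _).symm)

end Groth.Agent.H27LogComp
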